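import Cfsg.Agent.H630.CJ.RowsA
import Cfsg.Agent.H291.SCBaby
import Cfsg.Agent.H863.BMin

/-!
# S4792: the Baby Monster (helper630)
-/

set_option autoImplicit false

namespace Cfsg.Agent.H630.CJ

open Subgroup Cfsg Cfsg.Agent.H430.Conj Module
open Cfsg.Agent.H122 (MinDeg)
open Cfsg.Agent.H408.SporEng (Self)

universe u v

theorem minDeg_b : MinDeg Spor.BabyMonster 4371 := by
  intro V _ _ _ ρ hρ
  refine Cfsg.Agent.H863.BMin.min_degree (F := ℂ) two_ne_zero ρ ?_
  rintro rfl
  obtain ⟨g, hg⟩ := hρ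
  exact hg rfl

theorem row_b (hK : Cfsg.Agent.H995.CopEngine.AllKnown.{0}) {G : Type u} [Group G] [Finite G] (hs : IsSimpleGroup G)
    (h : Spor.IsoB G) : Row G := by
  have hc := NotCT.Orders.b h
  obtain ⟨e⟩ := h
  have hfin : Finite Spor.BabyMonster := Finite.of_equiv _ e.toEquiv
  have hself : Self 47 Spor.BabyMonster := Self.of_all (by norm_num)
    (by rw [← Nat.card_congr e.toEquiv, hc]; norm_num) fun x hx => Cfsg.Agent.H291.SCBaby.sc hK x hx
  have hs' : IsSimpleGroup Spor.BabyMonster := (MulEquiv.isSimpleGroup_congr e).1 hs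
  exact Row.of_equiv e.symm (row_deg' (p := 47) hs' ((Nat.card_congr e.toEquiv).symm.trans hc) (by norm_num)
    (by norm_num) hself minDeg_b (by norm_num))

end Cfsg.Agent.H630.CJ
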