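import Cfsg.Agent.H630.CJ.RowsA
import Cfsg.Agent.KFacts.Co1.OctGen
import Cfsg.Agent.S0358

/-!
# S4792: `Co1` (helper630)

The element of order 23 acts nontrivially on the image of the group of sign changes `2 ^ 12`.
-/

set_option autoImplicit false

namespace Cfsg.Agent.H630.CJ.Co1

open Subgroup Cfsg Cfsg.Agent.H430.Conj
open Cfsg.Agent.H408.SporEng (Self)
open Cfsg.Agent.SporadicA.Co0Mono Cfsg.Agent.SporadicA.Co1Simple

universe u v

/-- the sign changes -/
def E : Subgroup Co0 where
  carrier := Set.range signCo0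
  one_mem' := ⟨0, signCo0_zero⟩
  mul_mem' := by
    rintro _ _ ⟨c, rfl⟩ ⟨d, rfl⟩
    exact ⟨c + d, signCo0_add c d⟩
  inv_mem' := by
    rintro _ ⟨c, rfl⟩
    exact ⟨c, (signCo0_inv c).symm⟩

theorem mem_E (c : golayCode) : signCo0 c ∈ E := ⟨c, rfl⟩

/-- the image in `Co1` -/
def K : Subgroup Spor.Co1 := E.map (QuotientGroup.mk' (center Co0))

theorem K_two : IsPGroup 2 K := by
  rintro ⟨_, g, ⟨c, rfl⟩, rfl⟩
  refine ⟨1, Subtype.ext ?_⟩
  rw [pow_one, pow_two]
  change QuotientGroup.mk' (center Co0) (signCo0 c) * QuotientGroup.mk' (center Co0) (signCo0 c) = 1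
  rw [← map_mul, signCo0_mul_self, map_one]

noncomputable def x : Spor.Co1 := QuotientGroup.mk' (center Co0) x23

theorem orderOf_x : orderOf x = 23 := by
  have hf : Fact (Nat.Prime 23) := ⟨by norm_num⟩
  have hZ : Nat.card (center Co0) = 2 := Cfsg.Agent.S0398.result
  refine orderOf_eq_prime ?_ fun h => ?_
  · unfold x
    rw [← map_pow, x23_pow, map_one]
  · have h1 : x23 ∈ center Co0 := by
      rw [← QuotientGroup.ker_mk' (center Co0), MonoidHom.mem_ker]
      exact h
    have h2 : orderOf x23 ∣ Nat.card (center Co0) := Subgroup.orderOf_dvd_natCard _ h1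
    rw [orderOf_x23, hZ] at h2
    revert h2
    norm_num

theorem conj_mem {k : Spor.Co1} (hk : k ∈ K) : x * k * x⁻¹ ∈ K := by
  obtain ⟨_, ⟨c, rfl⟩, rfl⟩ := hk
  refine ⟨signCo0 (wordPerm shift c), mem_E _, ?_⟩
  unfold x
  rw [← map_inv, ← map_mul, ← map_mul]
  congr 1
  exact (perm_mul_sign_mul_inv shift c).symm

theorem not_may {hs : IsSimpleGroup Spor.Co1} [Finite Spor.Co1] (h23 : Self 23 Spor.Co1) :
    ¬ Cfsg.Agent.H80.Fpf.May 23 Spor.Co1 := by
  have hZ : Nat.card (center Co0) = 2 := Cfsg.Agent.S0398.result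
  by_cases hall : ∀ k ∈ K, x * k = k * x
  · exfalso
    -- then `K` is trivial
    have hK : K ≤ centralizer ({x} : Set Spor.Co1) := fun k hk => mem_centralizer_singleton_iff.2 (hall k hk).symm
    have h1 := card_dvd_of_le hK
    rw [card_of_self (by norm_num) h23 orderOf_x] at h1
    have hf : Fact (Nat.Prime 2) := ⟨Nat.prime_two⟩
    obtain ⟨n, hn⟩ := IsPGroup.iff_card.1 K_two
    rw [hn] at h1
    have hn0 : n = 0 := by
      by_contra h0
      have h2 : 2 ∣ 23 := (dvd_pow_self 2 h0).trans h1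
      revert h2
      norm_num
    rw [hn0, pow_zero] at hn
    have hbot : K = ⊥ := Subgroup.card_eq_one.1 hn
    have hcen : ∀ c : golayCode, signCo0 c ∈ center Co0 := by
      intro c
      rw [← QuotientGroup.ker_mk' (center Co0), MonoidHom.mem_ker]
      have h2 : QuotientGroup.mk' (center Co0) (signCo0 c) ∈ K := ⟨_, mem_E c, rfl⟩
      rw [hbot, Subgroup.mem_bot] at h2
      exact h2
    have hfin : Finite (center Co0) := Nat.finite_of_card_ne_zero (by rw [hZ]; norm_num)
    have h3 : Nat.card golayCode ≤ Nat.card (center Co0) :=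
      Nat.card_le_card_of_injective (fun c => (⟨signCo0 c, hcen c⟩ : center Co0)) fun c d h =>
        Cfsg.Agent.KFacts.Co1.OctGen.sign_inj (congrArg Subtype.val h)
    rw [Cfsg.Agent.S0358.card_golayCode, hZ] at h3
    norm_num at h3
  · push Not at hall
    obtain ⟨k, hk, hne⟩ := hall
    exact Cfsg.Agent.H80.Fpf.not_may_of_act (r := 23) (l := 2) (by norm_num) (by norm_num) Nat.prime_two (by norm_num)
      (Cfsg.Agent.H80.Fpf.good_two_of_dvd (q := 11) (by norm_num) (by norm_num) (by norm_num)) K_two orderOf_x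
      (fun _ h => conj_mem h) hk hne

theorem row_co1 {G : Type u} [Group G] [Finite G] (hs : IsSimpleGroup G) (h : Spor.IsoCo1 G) : Row G := by
  have hc := NotCT.Orders.co1 h
  have hself : Self 23 G := Self.of_all (by norm_num) (by rw [hc]; norm_num) fun _ hx =>
    H547.SelfCent.Conway.co1 h (H393.Iso.na_co1 h) hx
  obtain ⟨e⟩ := h
  have hs' : IsSimpleGroup Spor.Co1 := (MulEquiv.isSimpleGroup_congr e).1 hs
  have hfin : Finite Spor.Co1 := Finite.of_equiv _ e.toEquiv
  have hc' : Nat.card Spor.Co1 = Nat.card G := (Nat.card_congr e.toEquiv).symm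
  have hself' : Self 23 Spor.Co1 := Self.congr e hself
  refine Row.of_equiv e.symm (row_of_not_may (not_comm_of hs' (hc'.trans hc) (by norm_num)) (by norm_num) hself' ?_)
  exact not_may (hs := hs') hself'

end Cfsg.Agent.H630.CJ.Co1
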