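import Cfsg.Agent.H630.CJ.RowsA
import Cfsg.Agent.H844.Fpf.RowFiFour

/-!
# S4792: `Fi22` (helper630)

`13` acts on a 3-group (helper844).
-/

set_option autoImplicit false

namespace Cfsg.Agent.H630.CJ

open Subgroup Cfsg Cfsg.Agent.H430.Conj Module
open Cfsg.Agent.H408.SporEng (Self)

universe u v

theorem row_fi22 {G : Type u} [Group G] [Finite G] (hs : IsSimpleGroup G) (h : Spor.IsoFi22 G) : Row G := by
  have hc := NotCT.Orders.fi22 h
  obtain ⟨e⟩ := h
  have hfin : Finite Spor.Fi22 := Finite.of_equiv _ e.toEquiv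
  have hs' : IsSimpleGroup Spor.Fi22 := (MulEquiv.isSimpleGroup_congr e).1 hs
  exact Row.of_equiv e.symm (row_of_not_may (not_comm_of hs' ((Nat.card_congr e.toEquiv).symm.trans hc) (by norm_num))
    (by norm_num) H408.SporSelf.fi22 Cfsg.Agent.H844.Fpf.fi22_13)

end Cfsg.Agent.H630.CJ
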