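import Cfsg.Agent.H630.CJ.RowsA
import Cfsg.Agent.H568.SC.Mon
import Cfsg.Agent.H847.MonDeg

/-!
# S4792: the Monster (helper630)
-/

set_option autoImplicit false

namespace Cfsg.Agent.H630.CJ

open Subgroup Cfsg Cfsg.Agent.H430.Conj Module
open Cfsg.Agent.H122 (MinDeg)
open Cfsg.Agent.H408.SporEng (Self)

universe u v

theorem minDeg_m : MinDeg Spor.Monster 196883 := by
  intro V _ _ _ ρ hρ
  exact Cfsg.Agent.H847.MonDeg.bound ρ hρ

theorem row_m (hK : Cfsg.Agent.H995.CopEngine.AllKnown.{0}) {G : Type u} [Group G] [Finite G] (hs : IsSimpleGroup G)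
    (h : Spor.IsoM G) : Row G := by
  have hc := NotCT.Orders.m h
  obtain ⟨e⟩ := h
  have hfin : Finite Spor.Monster := Finite.of_equiv _ e.toEquiv
  have hself : Self 59 Spor.Monster := Self.of_all (by norm_num)
    (by rw [← Nat.card_congr e.toEquiv, hc]; norm_num) fun x hx => Cfsg.Agent.H568.SC.Mon.sc hK x hx
  have hs' : IsSimpleGroup Spor.Monster := (MulEquiv.isSimpleGroup_congr e).1 hs
  exact Row.of_equiv e.symm (row_deg' (p := 59) hs' ((Nat.card_congr e.toEquiv).symm.trans hc) (by norm_num)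
    (by norm_num) hself minDeg_m (by norm_num))

end Cfsg.Agent.H630.CJ
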