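import Cfsg.Agent.H630.CJ.RowsA
import Cfsg.Agent.H385.SpCoTwo
import Cfsg.Agent.H149.Sp.CopCoMain

/-!
# S4792: `Co2` (helper630)
-/

set_option autoImplicit false

namespace Cfsg.Agent.H630.CJ

open Subgroup Cfsg Cfsg.Agent.H430.Conj
open Cfsg.Agent.H122 (MinDeg)
open Cfsg.Agent.H408.SporEng (Self)

universe u v

theorem self_of_primes {G : Type u} [Group G] [Finite G] {p N : ℕ} (hp : p.Prime) (hN : Nat.card G = N) (hd : p ∣ N)
    (hsq : ¬ p ^ 2 ∣ N)
    (h : ∀ x : G, orderOf x = p → ∀ q : ℕ, q.Prime → q ≠ p → q ∣ N → ¬ q ∣ Nat.card (centralizer ({x} : Set G))) :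
    Self p G := by
  refine Self.of_all hp (by rw [hN]; exact hd) fun x hx => ?_
  have hdvd : Nat.card (centralizer ({x} : Set G)) ∣ N := by rw [← hN]; exact card_subgroup_dvd_card _
  have hpC : p ∣ Nat.card (centralizer ({x} : Set G)) := by
    rw [← hx]
    exact Subgroup.orderOf_dvd_natCard _ (mem_centralizer_singleton_iff.2 rfl)
  obtain ⟨k, hk⟩ := hpC
  have hk1 : k = 1 := by
    by_contra hne
    obtain ⟨q, hq, hqk⟩ := Nat.exists_prime_and_dvd hne
    have hqC : q ∣ Nat.card (centralizer ({x} : Set G)) := by rw [hk]; exact hqk.mul_left p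
    by_cases hqp : q = p
    · apply hsq
      rw [pow_two]
      refine (mul_dvd_mul_left p ?_).trans (by rw [← hk]; exact hdvd)
      rw [← hqp]; exact hqk
    · exact h x hx q hq hqp (hqC.trans hdvd) hqC
  rw [hk, hk1, mul_one]

theorem self11_co2 : Self 11 Spor.Co2 := by
  have hc : Nat.card Spor.Co2 = 42305421312000 := Cfsg.Agent.Schreier.CoTwoStab.card
  have hfin : Finite Spor.Co2 := Nat.finite_of_card_ne_zero (by rw [hc]; norm_num)
  refine self_of_primes (by norm_num) hc (by norm_num) (by norm_num) fun x hx q hq hne hd hqC => ?_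
  have hfac : (42305421312000 : ℕ) = 2 ^ 18 * 3 ^ 6 * 5 ^ 3 * 7 * 11 * 23 := by norm_num
  rw [hfac] at hd
  have hq' : q = 2 ∨ q = 3 ∨ q = 5 ∨ q = 7 ∨ q = 11 ∨ q = 23 := by
    rw [hq.dvd_mul, hq.dvd_mul, hq.dvd_mul, hq.dvd_mul, hq.dvd_mul] at hd
    rcases hd with ((((h | h) | h) | h) | h) | h
    · exact Or.inl ((Nat.prime_dvd_prime_iff_eq hq Nat.prime_two).1 (hq.dvd_of_dvd_pow h))
    · exact Or.inr (Or.inl ((Nat.prime_dvd_prime_iff_eq hq Nat.prime_three).1 (hq.dvd_of_dvd_pow h)))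
    · exact Or.inr (Or.inr (Or.inl ((Nat.prime_dvd_prime_iff_eq hq Nat.prime_five).1 (hq.dvd_of_dvd_pow h))))
    · exact Or.inr (Or.inr (Or.inr (Or.inl ((Nat.prime_dvd_prime_iff_eq hq (by norm_num)).1 h))))
    · exact Or.inr (Or.inr (Or.inr (Or.inr (Or.inl ((Nat.prime_dvd_prime_iff_eq hq (by norm_num)).1 h)))))
    · exact Or.inr (Or.inr (Or.inr (Or.inr (Or.inr ((Nat.prime_dvd_prime_iff_eq hq (by norm_num)).1 h)))))
  have hCB : ∀ {r : ℕ}, H537.Cop.CB 11 r 0 Spor.Co2 → ¬ r ∣ Nat.card (centralizer ({x} : Set Spor.Co2)) := by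
    intro r h hr
    apply h x hx
    rw [zero_add, pow_one]
    exact hr
  rcases hq' with rfl | rfl | rfl | rfl | rfl | rfl
  · have : Fact (Nat.Prime 2) := ⟨Nat.prime_two⟩
    obtain ⟨t, ht⟩ := exists_prime_orderOf_dvd_card' 2 hqC
    exact H385.Sp.co2_noTwo (t : Spor.Co2) x (by rw [Subgroup.orderOf_coe, ht]) hx (mem_centralizer_singleton_iff.1 t.2)
  · exact hCB H149.Sp.CopCo.co2_11_3 hqC
  · exact hCB (H149.Sp.CopCo.co2_p5 H149.Sp.p11 H149.Sp.p5 (by norm_num)) hqC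
  · exact hCB (H149.Sp.CopCo.co2_p5 H149.Sp.p11 H149.Sp.p7 (by norm_num)) hqC
  · exact hne rfl
  · exact hCB (H149.Sp.CopCo.co2_p5 H149.Sp.p11 H149.Sp.p23 (by norm_num)) hqC

variable {G : Type u} [Group G] [Finite G]

theorem row_co2 (hs : IsSimpleGroup G) (h : Spor.IsoCo2 G) : Row G :=
  h.elim fun e => row_deg' (p := 11) hs (NotCT.Orders.co2 h) (by norm_num) (by norm_num)
    (Self.congr e.symm self11_co2) (H121.Cyc.co2 h) (by norm_num)

end Cfsg.Agent.H630.CJ
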