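import Cfsg.Agent.H630.CJ.Prime
import Cfsg.Agent.H121.Cyc.Prime
import Cfsg.Agent.H408.SporEng
import Cfsg.Agent.H80.Fpf.Crit

/-!
# S4792: criteria with self-centralising elements of prime order (helper630)

`Self p G` (helper408): a self-centralising element of order `p`.

* `deg_eq` : an irreducible representation of degree `≥ 2` where the element has no fixed vector has degree `p - 1`
  (`G` simple, not `PSL(2, p)`).
* `row_of_deg` : no irreducible representation of degree `p - 1`;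
* `row_of_minDeg` : `MinDeg G p`;
* `row_of_two` : two different primes;
* `row_of_not_may` : `¬ May p G` (helper80).
-/

set_option autoImplicit false

namespace Cfsg.Agent.H630.CJ

open Subgroup Cfsg Cfsg.Agent.H430.Conj Module Cfsg.Agent.Characters.Core
open Cfsg.Agent.H122 (MinDeg)
open Cfsg.Agent.H408.SporEng (Self)

universe u v

section

variable {G : Type u} [Group G] [Finite G] [IsSimpleGroup G] {p : ℕ}

omit [Finite G] [IsSimpleGroup G] in
theorem cent_cast {x : G} {g : G} (h : g * x = x * g) : g ∈ centralizer ({x} : Set G) :=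
  mem_centralizer_singleton_iff.2 h

omit [IsSimpleGroup G] in
/-- a self-centralising element with a fixed vector -/
theorem vec_of_fix {x : G} (hx : orderOf x = p) (hC : Nat.card (centralizer ({x} : Set G)) = p)
    {n : ℕ} (ρ : Representation ℂ G (Fin n → ℂ)) {v : Fin n → ℂ} (hv : v ≠ 0) (h : ρ x v = v) :
    ∃ (x : G) (v : Fin n → ℂ), v ≠ 0 ∧ ∀ c : G, c * x = x * c → ρ c v = v := by
  refine ⟨x, v, hv, fun c hc => ?_⟩
  have h1 : centralizer ({x} : Set G) = zpowers x := by
    symm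
    apply eq_of_le_of_card_ge
    · rw [zpowers_le, mem_centralizer_singleton_iff]
    · rw [hC, Nat.card_zpowers, hx]
  have h2 : c ∈ zpowers x := by rw [← h1]; exact cent_cast hc
  exact (zpowers_le.2 (mem_fixer.2 h) : zpowers x ≤ fixer ρ v) h2

/-- degree one -/
theorem vec_of_small (hna : ¬ IsMulCommutative G) {n : ℕ} (ρ : Representation ℂ G (Fin n → ℂ)) (hρ : ρ.IsIrreducible)
    (hn : n ≤ 1) : ∃ (x : G) (v : Fin n → ℂ), v ≠ 0 ∧ ∀ c : G, c * x = x * c → ρ c v = v := by
  obtain ⟨m, hm, hm1⟩ := isIrr_apply_one (χ := ρ.character) ⟨n, ρ, hρ, rfl⟩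
  rw [Cfsg.Agent.H121.Cyc.apply_one_fin] at hm1
  have hmn : n = m := by exact_mod_cast hm1
  obtain rfl : n = 1 := by omega
  have h1 : ∀ g, ρ g = 1 := by
    by_contra hcon
    push Not at hcon
    have h2 := (Cfsg.Agent.H121.Cyc.minDeg_of_fin (Cfsg.Agent.H121.Cyc.commutator_top hna) (b := 2)
      fun k _ _ hk => hk) (Fin 1 → ℂ) ρ hcon
    rw [finrank_fin_fun] at h2
    omega
  refine ⟨1, fun _ => 1, ?_, fun c _ => by rw [h1]; rfl⟩
  intro h
  exact one_ne_zero (congrFun h 0)

/-- **The degree of a representation without fixed vector.** -/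
theorem deg_eq (hna : ¬ IsMulCommutative G) (hp : p.Prime)
    (hL : ¬ Nonempty (G ≃* Matrix.ProjectiveSpecialLinearGroup (Fin 2) (ZMod p)))
    {x : G} (hx : orderOf x = p) (hC : Nat.card (centralizer ({x} : Set G)) = p)
    {n : ℕ} (ρ : Representation ℂ G (Fin n → ℂ)) (hρ : ρ.IsIrreducible) (hn : 2 ≤ n) (hno : ∀ v, ρ x v = v → v = 0) :
    n = p - 1 := by
  have := Fact.mk hp
  have h1 : n ∣ p - 1 := by
    rcases deg_of_nofix hx hC ρ hρ hno with h | ⟨-, h⟩
    · rw [h]
    · exact h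
  by_contra hne
  obtain ⟨P, -, hP⟩ := exists_sylow hx hC
  apply hL
  apply Cfsg.Agent.H121.Cyc.half hna P hP ρ (Cfsg.Agent.H121.Cyc.exists_ne_one' ρ hρ hn)
  obtain ⟨k, hk⟩ := h1
  have h2 := hp.two_le
  have hk2 : 2 ≤ k := by
    rcases k with _ | _ | k
    · omega
    · omega
    · omega
  have h3 : n * 2 ≤ n * k := Nat.mul_le_mul_left _ hk2
  omega

/-- **No irreducible representation of degree `p - 1`.** -/
theorem row_of_deg (hna : ¬ IsMulCommutative G) (hp : p.Prime)
    (hL : ¬ Nonempty (G ≃* Matrix.ProjectiveSpecialLinearGroup (Fin 2) (ZMod p))) (hs : Self p G)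
    (hd : ∀ ρ : Representation ℂ G (Fin (p - 1) → ℂ), ρ.IsIrreducible →
      ∃ (x : G) (v : Fin (p - 1) → ℂ), v ≠ 0 ∧ ∀ c : G, c * x = x * c → ρ c v = v) : Row G := by
  refine row_of_vec fun n ρ hρ => ?_
  rcases Nat.lt_or_ge n 2 with hn | hn
  · exact vec_of_small hna ρ hρ (by omega)
  obtain ⟨x, hx, hC⟩ := hs
  by_cases hno : ∀ v, ρ x v = v → v = 0
  · obtain rfl := deg_eq hna hp hL hx hC ρ hρ hn hno
    exact hd ρ hρ
  · push Not at hno
    obtain ⟨v, hv, hv0⟩ := hno
    exact vec_of_fix hx hC ρ hv0 hv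

/-- **Minimal degree.** -/
theorem row_of_minDeg (hna : ¬ IsMulCommutative G) (hp : p.Prime) (hs : Self p G) (hm : MinDeg G p) : Row G := by
  refine row_of_vec fun n ρ hρ => ?_
  rcases Nat.lt_or_ge n 2 with hn | hn
  · exact vec_of_small hna ρ hρ (by omega)
  obtain ⟨x, hx, hC⟩ := hs
  by_cases hno : ∀ v, ρ x v = v → v = 0
  · exfalso
    have := Fact.mk hp
    have h1 : n ∣ p - 1 := by
      rcases deg_of_nofix hx hC ρ hρ hno with h | ⟨-, h⟩
      · rw [h]
      · exact h
    have h2 := hm (Fin n → ℂ) ρ (Cfsg.Agent.H121.Cyc.exists_ne_one' ρ hρ hn)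
    rw [finrank_fin_fun] at h2
    have h3 := hp.two_le
    have h4 := Nat.le_of_dvd (by omega) h1
    omega
  · push Not at hno
    obtain ⟨v, hv, hv0⟩ := hno
    exact vec_of_fix hx hC ρ hv0 hv

/-- **Two primes.** -/
theorem row_of_two (hna : ¬ IsMulCommutative G) (hp : p.Prime) {q : ℕ} (hq : q.Prime) (hpq : p < q)
    (hL : ¬ Nonempty (G ≃* Matrix.ProjectiveSpecialLinearGroup (Fin 2) (ZMod p)))
    (hL' : ¬ Nonempty (G ≃* Matrix.ProjectiveSpecialLinearGroup (Fin 2) (ZMod q)))
    (hs : Self p G) (hs' : Self q G) : Row G := by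
  refine row_of_deg hna hp hL hs fun ρ hρ => ?_
  rcases Nat.lt_or_ge (p - 1) 2 with hn | hn
  · exact vec_of_small hna ρ hρ (by omega)
  obtain ⟨x, hx, hC⟩ := hs'
  by_cases hno : ∀ v, ρ x v = v → v = 0
  · have h1 := deg_eq hna hq hL' hx hC ρ hρ hn hno
    have := hp.two_le
    omega
  · push Not at hno
    obtain ⟨v, hv, hv0⟩ := hno
    exact vec_of_fix hx hC ρ hv0 hv

end

section

/-- all elements of order `p` are self-centralising -/
theorem card_of_self {G : Type u} [Group G] [Finite G] {p : ℕ} (hp : p.Prime) (hs : Self p G) {y : G}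
    (hy : orderOf y = p) : Nat.card (centralizer ({y} : Set G)) = p := by
  have := Fact.mk hp
  obtain ⟨x, hx, hC⟩ := hs
  obtain ⟨P, hPx, hP⟩ := exists_sylow hx hC
  have hcz : Nat.card (zpowers y) = p := by rw [Nat.card_zpowers, hy]
  have hpg : IsPGroup p (zpowers y) := IsPGroup.of_card (n := 1) (by rw [hcz, pow_one])
  obtain ⟨Q, hQ⟩ := hpg.exists_le_sylow
  obtain ⟨g, hg⟩ := MulAction.exists_smul_eq G Q P
  have h1 : g * y * g⁻¹ ∈ zpowers x := by
    rw [← hPx, ← hg]
    change g * y * g⁻¹ ∈ ((g • Q : Sylow p G) : Subgroup G)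
    rw [Sylow.coe_subgroup_smul]
    exact Subgroup.smul_mem_pointwise_smul y (MulAut.conj g) _ (hQ (mem_zpowers y))
  have h5 : orderOf (g * y * g⁻¹) = p := by
    rw [← hy]
    exact MulEquiv.orderOf_eq (MulAut.conj g) y
  have h2 : zpowers (g * y * g⁻¹) = zpowers x := by
    apply eq_of_le_of_card_ge (zpowers_le.2 h1)
    rw [Nat.card_zpowers, Nat.card_zpowers, hx, h5]
  have h3 : ∀ y : G, centralizer ({y} : Set G) = centralizer ((zpowers y : Subgroup G) : Set G) := by
    intro y
    rw [zpowers_eq_closure, centralizer_closure]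
  have h4 : Nat.card (centralizer ({g * y * g⁻¹} : Set G)) = p := by rw [h3, h2, ← h3, hC]
  rw [← h4]
  refine Nat.card_congr (Equiv.ofBijective (fun c : centralizer ({y} : Set G) =>
    (⟨MulAut.conj g c, ?_⟩ : centralizer ({g * y * g⁻¹} : Set G))) ⟨?_, ?_⟩)
  · rw [mem_centralizer_singleton_iff]
    have := mem_centralizer_singleton_iff.1 c.2
    change MulAut.conj g (c : G) * MulAut.conj g y = MulAut.conj g y * MulAut.conj g (c : G)
    rw [← map_mul, this, map_mul]
  · intro a b hab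
    exact Subtype.ext ((MulAut.conj g).injective (congrArg Subtype.val hab))
  · rintro ⟨c, hc⟩
    refine ⟨⟨(MulAut.conj g).symm c, ?_⟩, Subtype.ext ((MulAut.conj g).apply_symm_apply c)⟩
    rw [mem_centralizer_singleton_iff] at hc ⊢
    apply (MulAut.conj g).injective
    rw [map_mul, map_mul, MulEquiv.apply_symm_apply]
    exact hc

/-- **`¬ May p G`** (helper80): every nonzero representation has an element of order `p` with a fixed vector. -/
theorem row_of_not_may {G : Type} [Group G] [Finite G] [IsSimpleGroup G] {p : ℕ} (hna : ¬ IsMulCommutative G)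
    (hp : p.Prime) (hs : Self p G) (hm : ¬ Cfsg.Agent.H80.Fpf.May p G) : Row G := by
  refine row_of_vec fun n ρ hρ => ?_
  have hn : 0 < n := by
    obtain ⟨m, hm, hm1⟩ := isIrr_apply_one (χ := ρ.character) ⟨n, ρ, hρ, rfl⟩
    rw [Cfsg.Agent.H121.Cyc.apply_one_fin] at hm1
    have hmn : n = m := by exact_mod_cast hm1
    omega
  by_contra hcon
  push Not at hcon
  apply hm
  refine ⟨G, inferInstance, inferInstance, MonoidHom.id G, ⟨Function.surjective_id, ?_, ?_⟩, n, ρ, hn, ?_⟩
  · intro z hz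
    rw [MonoidHom.mem_ker, MonoidHom.id_apply] at hz
    rw [hz]
    exact one_mem _
  · exact Cfsg.Agent.H121.Cyc.commutator_top hna
  · intro g hg v hv
    by_contra hv0
    obtain ⟨x, w, hw, hc⟩ := vec_of_fix hg (card_of_self hp hs hg) ρ hv0 hv
    obtain ⟨c, hc1, hc2⟩ := hcon x w hw
    exact hc2 (hc c hc1)

end

end Cfsg.Agent.H630.CJ
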