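import Cfsg.Agent.H630.CJ.RowsB
import Cfsg.Agent.H630.CJ.RowsC
import Cfsg.Agent.H630.CJ.RowCo1
import Cfsg.Agent.H630.CJ.RowFi22
import Cfsg.Agent.H630.CJ.RowB
import Cfsg.Agent.H630.CJ.RowM
import Cfsg.Agent.H635.CJ.Rows
import Cfsg.Agent.H635.CJ.He
import Cfsg.Agent.H513.ConjRow

/-!
# S4792: all sporadic groups (helper630)
-/

set_option autoImplicit false

namespace Cfsg.Agent.H630.CJ

open Cfsg Cfsg.Agent.H430.Conj

universe u

theorem row_sporadic (hK : Cfsg.Agent.H995.CopEngine.AllKnown.{0}) {S : Type u} [Group S] [Finite S]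
    (hs : IsSimpleGroup S) (h : IsSporadicGroup S) : Row S := by
  rcases h with h | h | h | h | h | h | h | h | h | h | h | h | h | h | h | h | h | h | h | h | h | h | h | h | h | h
  · exact row_m11 hs h
  · exact H635.CJ.row_m12 hs h
  · exact row_m22 hs h
  · exact row_m23 hs h
  · exact row_m24 hs h
  · exact row_j1 hs h
  · exact H635.CJ.row_j2 hs h
  · exact row_j3 hs h
  · exact row_j4 hs h
  · exact Co1.row_co1 hs h
  · exact row_co2 hs h
  · exact H635.CJ.row_co3 hs h
  · exact row_mcl hs h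
  · exact row_hs hs h
  · exact row_suz hs h
  · exact H635.CJ.row_he hs h
  · exact H635.CJ.row_ru hs h
  · exact row_on hs h
  · exact H513.ConjRow.row_ly hs h
  · exact row_fi22 hs h
  · exact row_fi23 hs h
  · exact row_fi24 hs h
  · exact H513.ConjRow.row_hn hs h
  · exact H513.ConjRow.row_th hs h
  · exact row_b hK hs h
  · exact row_m hK hs h

end Cfsg.Agent.H630.CJ
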