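import Cfsg.Agent.H430.Conj.Defs
import Mathlib.RepresentationTheory.Character

/-!
# S4792, sporadic layer: basic tools (helper630)

`hasFix_of_vector`, `HasFix.exists_vector`, `row_of_vec`, `Row.of_equiv`.
-/

set_option autoImplicit false

namespace Cfsg.Agent.H630.CJ

open Subgroup Cfsg Cfsg.Agent.H430.Conj Module Cfsg.Agent.Characters.Core

universe u v

variable {G : Type u} [Group G] [Finite G]

theorem sum_eq {V : Type*} [AddCommGroup V] [Module ℂ V] [FiniteDimensional ℂ V]
    (ρ : Representation ℂ G V) (C : Subgroup G) :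
    ∑ᶠ c : C, ρ.character c = (Nat.card C : ℂ) * (finrank ℂ (Representation.invariants (ρ.comp C.subtype)) : ℂ) := by
  have : Fintype C := Fintype.ofFinite C
  have hcard : (Nat.card C : ℂ) ≠ 0 := by exact_mod_cast Nat.card_pos.ne'
  have : Invertible (Nat.card C : ℂ) := invertibleOfNonzero hcard
  rw [← Representation.card_inv_mul_sum_char_eq_finrank (ρ.comp C.subtype), finsum_eq_sum_of_fintype,
    ← mul_assoc, mul_inv_cancel₀ hcard, one_mul]
  rfl

/-- the stabiliser of a vector -/
def fixer {G : Type u} [Group G] {V : Type*} [AddCommGroup V] [Module ℂ V] (ρ : Representation ℂ G V) (v : V) :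
    Subgroup G where
  carrier := {g | ρ g v = v}
  one_mem' := by simp
  mul_mem' {a b} ha hb := by
    simp only [Set.mem_ofPred_eq] at ha hb ⊢
    rw [map_mul, Module.End.mul_apply, hb, ha]
  inv_mem' {a} ha := by
    simp only [Set.mem_ofPred_eq] at ha ⊢
    conv_lhs => rw [← ha]
    rw [← Module.End.mul_apply, ← map_mul, inv_mul_cancel, map_one, Module.End.one_apply]

theorem mem_fixer {G : Type u} [Group G] {V : Type*} [AddCommGroup V] [Module ℂ V] {ρ : Representation ℂ G V} {v : V}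
    {g : G} : g ∈ fixer ρ v ↔ ρ g v = v := Iff.rfl

theorem hasFix_of_vector {V : Type*} [AddCommGroup V] [Module ℂ V] [FiniteDimensional ℂ V]
    (ρ : Representation ℂ G V) (C : Subgroup G) {v : V} (hv : v ≠ 0) (h : ∀ c ∈ C, ρ c v = v) :
    HasFix C ρ.character := by
  unfold HasFix
  rw [sum_eq]
  refine mul_ne_zero (by exact_mod_cast Nat.card_pos.ne') ?_
  rw [Nat.cast_ne_zero]
  intro h0
  have h1 : Representation.invariants (ρ.comp C.subtype) = ⊥ := Submodule.finrank_eq_zero.1 h0
  have h2 : v ∈ Representation.invariants (ρ.comp C.subtype) := fun c => h c c.2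
  rw [h1, Submodule.mem_bot] at h2
  exact hv h2

theorem exists_vector {V : Type*} [AddCommGroup V] [Module ℂ V] [FiniteDimensional ℂ V]
    {ρ : Representation ℂ G V} {C : Subgroup G} (h : HasFix C ρ.character) :
    ∃ v : V, v ≠ 0 ∧ ∀ c ∈ C, ρ c v = v := by
  unfold HasFix at h
  rw [sum_eq] at h
  have h1 : Representation.invariants (ρ.comp C.subtype) ≠ ⊥ := by
    intro h2
    apply h
    rw [h2, finrank_bot, Nat.cast_zero, mul_zero]
  obtain ⟨v, hv, hv0⟩ := Submodule.exists_mem_ne_zero_of_ne_bot h1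
  exact ⟨v, hv0, fun c hc => hv ⟨c, hc⟩⟩

/-- It suffices to treat irreducible representations. -/
theorem row_of_vec (h : ∀ (n : ℕ) (ρ : Representation ℂ G (Fin n → ℂ)), ρ.IsIrreducible →
    ∃ (x : G) (v : Fin n → ℂ), v ≠ 0 ∧ ∀ c : G, c * x = x * c → ρ c v = v) : Row G := by
  rintro _ ⟨n, ρ, hρ, rfl⟩
  obtain ⟨x, v, hv, hc⟩ := h n ρ hρ
  exact ⟨x, hasFix_of_vector ρ _ hv fun c hcx => hc c (mem_centralizer_singleton_iff.1 hcx)⟩

/-- The row in terms of vectors. -/
theorem Row.vec (h : Row G) {n : ℕ} (ρ : Representation ℂ G (Fin n → ℂ)) (hρ : ρ.IsIrreducible) :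
    ∃ (x : G) (v : Fin n → ℂ), v ≠ 0 ∧ ∀ c : G, c * x = x * c → ρ c v = v := by
  obtain ⟨x, hx⟩ := h ρ.character ⟨n, ρ, hρ, rfl⟩
  obtain ⟨v, hv, hc⟩ := exists_vector hx
  exact ⟨x, v, hv, fun c hcx => hc c (mem_centralizer_singleton_iff.2 hcx)⟩

/-- transport -/
theorem Row.of_equiv {H : Type v} [Group H] (e : G ≃* H) (h : Row G) : Row H := by
  have : Finite H := Finite.of_equiv _ e.toEquiv
  rintro χ hχ
  obtain ⟨x, hx⟩ := h (fun g => χ (e g)) (isIrr_comp e.toMonoidHom e.surjective hχ)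
  refine ⟨e x, ?_⟩
  unfold HasFix at hx ⊢
  intro h0
  apply hx
  rw [← h0]
  refine finsum_eq_of_bijective (fun c : centralizer ({x} : Set G) => (⟨e c, ?_⟩ : centralizer ({e x} : Set H))) ?_
    (fun _ => rfl)
  · rw [mem_centralizer_singleton_iff, ← map_mul, ← map_mul, mem_centralizer_singleton_iff.1 c.2]
  · constructor
    · intro a b hab
      exact Subtype.ext (e.injective (congrArg Subtype.val hab))
    · rintro ⟨c, hcc⟩
      refine ⟨⟨e.symm c, ?_⟩, Subtype.ext (e.apply_symm_apply c)⟩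
      rw [mem_centralizer_singleton_iff]
      apply e.injective
      rw [map_mul, map_mul, e.apply_symm_apply, mem_centralizer_singleton_iff.1 hcc]

end Cfsg.Agent.H630.CJ
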