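import Cfsg.Agent.H630.CJ.Base
import Cfsg.Agent.Blocks.CyclicUpper
import Cfsg.Agent.Blocks.CyclicAssembly
import Cfsg.Agent.Blocks.ExistsModular
import Cfsg.Agent.S0145

/-!
# S4792: self-centralising elements of prime order (helper630)

`deg_of_nofix` : `|C(x)| = p = |x|` prime and `χ` irreducible without `x`-fixed vector: the degree is `p - 1` or
`|N(⟨x⟩) : ⟨x⟩|`; in particular it divides `p - 1`.
-/

set_option autoImplicit false

namespace Cfsg.Agent.H630.CJ

open Subgroup Cfsg Cfsg.Agent.H430.Conj Module Cfsg.Agent.Characters.Core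
open Cfsg.Agent.Blocks.CyclicUpper Cfsg.Agent.Blocks.CyclicGroup Cfsg.Agent.Blocks.CyclicGram
open Cfsg.Agent.Blocks.Basic
open scoped ComplexConjugate
open ZMod

universe u v

variable {G : Type u} [Group G] [Finite G] {p : ℕ} [hp : Fact p.Prime]

/-- a self-centralising subgroup of order `p` is a Sylow subgroup -/
theorem exists_sylow {x : G} (hx : orderOf x = p) (hC : Nat.card (centralizer ({x} : Set G)) = p) :
    ∃ P : Sylow p G, (P : Subgroup G) = zpowers x ∧ Nat.card P = p := by
  have hcz : Nat.card (zpowers x) = p := by rw [Nat.card_zpowers, hx]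
  have hpg : IsPGroup p (zpowers x) := IsPGroup.of_card (n := 1) (by rw [hcz, pow_one])
  obtain ⟨P, hP⟩ := hpg.exists_le_sylow
  have hCz : centralizer ({x} : Set G) = zpowers x := by
    symm
    apply eq_of_le_of_card_ge
    · rw [zpowers_le, mem_centralizer_singleton_iff]
    · rw [hC, hcz]
  have hxP : x ∈ (P : Subgroup G) := hP (mem_zpowers x)
  have hnt : Nontrivial (P : Subgroup G) := by
    refine ⟨⟨⟨x, hxP⟩, 1, fun h => ?_⟩⟩
    have h1 : x = 1 := congrArg Subtype.val h
    rw [h1, orderOf_one] at hx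
    exact hp.out.one_lt.ne hx
  have hZ := P.isPGroup'.center_nontrivial
  obtain ⟨z, hz, hz1⟩ := (Subgroup.nontrivial_iff_exists_ne_one _).1 hZ
  have hzx : (z : G) ∈ zpowers x := by
    rw [← hCz, mem_centralizer_singleton_iff]
    exact (congrArg Subtype.val (mem_center_iff.1 hz ⟨x, hxP⟩)).symm
  have hz1' : (z : G) ≠ 1 := fun h => hz1 (Subtype.ext h)
  have hzz : zpowers (z : G) = zpowers x := by
    apply eq_of_le_of_card_ge (zpowers_le.2 hzx)
    rw [hcz, Nat.card_zpowers]
    have h1 := Subgroup.orderOf_dvd_natCard _ hzx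
    rw [hcz] at h1
    rcases (Nat.dvd_prime hp.out).1 h1 with h | h
    · exact absurd (orderOf_eq_one_iff.1 h) hz1'
    · rw [h]
  have hPx : (P : Subgroup G) ≤ zpowers x := by
    intro g hg
    rw [← hCz, mem_centralizer_singleton_iff]
    have h1 : Commute g (z : G) := (congrArg Subtype.val (mem_center_iff.1 hz ⟨g, hg⟩) :)
    have h2 : x ∈ zpowers (z : G) := by rw [hzz]; exact mem_zpowers x
    obtain ⟨k, hk⟩ := mem_zpowers_iff.1 h2
    rw [← hk]
    exact (h1.zpow_right k).eq
  refine ⟨P, le_antisymm hPx hP, ?_⟩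
  rw [le_antisymm hPx hP, hcz]

/-- no fixed vector: the sum over the powers vanishes -/
theorem sum_zpowers_eq_zero {n : ℕ} (ρ : Representation ℂ G (Fin n → ℂ)) {z : G} (hz : orderOf z = p)
    (hno : ∀ v, ρ z v = v → v = 0) : ∑ m : ZMod p, ρ.character (u z m) = 0 := by
  have h1 : Representation.invariants (ρ.comp (zpowers z).subtype) = ⊥ := by
    rw [Submodule.eq_bot_iff]
    intro v hv
    exact hno v (hv ⟨z, mem_zpowers z⟩)
  have h2 := sum_eq ρ (zpowers z)
  rw [h1, finrank_bot, Nat.cast_zero, mul_zero] at h2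
  rw [← h2, ← finsum_eq_sum_of_fintype]
  refine finsum_eq_of_bijective (fun m : ZMod p => (⟨u z m, u_mem z m⟩ : zpowers z)) ⟨?_, ?_⟩ fun _ => rfl
  · intro a b hab
    exact u_injective hz (congrArg Subtype.val hab)
  · rintro ⟨y, hy⟩
    obtain ⟨m, hm⟩ := exists_u_of_mem hz hy
    exact ⟨m, Subtype.ext hm⟩

/-- characters outside the principal block vanish on a self-centralising element of order `p` -/
theorem apply_eq_zero {M : Ideal AlgInt} (hM : IsPModular p M) {z : G} (hz : orderOf z = p)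
    (hC : Nat.card (centralizer ({z} : Set G)) = p) {χ : IrrCharacter G} (hχ : χ ∉ principalBlock M G) :
    (χ : G → ℂ) z = 0 := by
  classical
  have := Fintype.ofFinite G
  have hfin := finite_irr (G := G)
  have : Fintype (IrrCharacter G) := Fintype.ofFinite _
  obtain ⟨P, hPz, hP⟩ := exists_sylow hz hC
  have hz1 : z ≠ 1 := by
    intro h
    rw [h, orderOf_one] at hz
    exact hp.out.one_lt.ne hz
  have hzP : z ∈ (P : Subgroup G) := by rw [hPz]; exact mem_zpowers z
  have h1 := sum_sq hM P hP (x := z) hzP hz1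
  have h2 : ∑ χ : IrrCharacter G, ‖(χ : G → ℂ) z‖ ^ 2 = (p : ℝ) := by
    have h1 := S0145.sum_irr_mul_conj z z
    rw [if_pos (IsConj.refl z), hC] at h1
    have h2 : ((∑ χ : IrrCharacter G, ‖(χ : G → ℂ) z‖ ^ 2 : ℝ) : ℂ) = ((p : ℝ) : ℂ) := by
      rw [Complex.ofReal_natCast, ← h1, Complex.ofReal_sum]
      refine Finset.sum_congr rfl fun χ _ => ?_
      rw [Complex.mul_conj, Complex.normSq_eq_norm_sq]
    exact_mod_cast h2
  rw [← h2, finsum_mem_def, finsum_eq_sum_of_fintype, ← sub_eq_zero, ← neg_eq_zero, neg_sub,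
    ← Finset.sum_sub_distrib, Finset.sum_eq_zero_iff_of_nonneg] at h1
  · have h3 := h1 χ (Finset.mem_univ χ)
    rw [Set.indicator_of_notMem hχ, sub_zero] at h3
    exact norm_eq_zero.1 (pow_eq_zero_iff two_ne_zero |>.1 h3)
  · intro ψ _
    by_cases h : ψ ∈ principalBlock M G
    · rw [Set.indicator_of_mem h, sub_self]
    · rw [Set.indicator_of_notMem h, sub_zero]
      positivity

theorem sum_mk_eq {p : ℕ} [Fact p.Prime] (H : Subgroup (ZMod p)ˣ) (a : (ZMod p)ˣ ⧸ H → ℤ) [Fintype ((ZMod p)ˣ ⧸ H)] :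
    ∑ i : (ZMod p)ˣ, a (QuotientGroup.mk i) = (Nat.card H : ℤ) * ∑ ω, a ω := by
  classical
  rw [← Finset.sum_fiberwise Finset.univ (fun i : (ZMod p)ˣ => (QuotientGroup.mk i : (ZMod p)ˣ ⧸ H)),
    Finset.mul_sum]
  refine Finset.sum_congr rfl fun ω _ => ?_
  have h6 : ∀ i ∈ Finset.univ.filter (fun i : (ZMod p)ˣ => (QuotientGroup.mk i : (ZMod p)ˣ ⧸ H) = ω),
      a (QuotientGroup.mk i) = a ω := fun i hi => by rw [(Finset.mem_filter.1 hi).2]
  rw [Finset.sum_congr rfl h6, Finset.sum_const, nsmul_eq_mul]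
  congr 1
  have h7 := QuotientGroup.card_preimage_mk H ({ω} : Set ((ZMod p)ˣ ⧸ H))
  rw [Nat.card_eq_fintype_card (α := ({ω} : Set ((ZMod p)ˣ ⧸ H)))] at h7
  simp only [Fintype.card_unique, mul_one] at h7
  rw [← h7, Nat.card_eq_card_toFinset]
  congr 2
  ext i
  simp

open scoped Classical in
/-- **Degrees of the characters without fixed vectors.** -/
theorem deg_of_nofix {x : G} (hx : orderOf x = p) (hC : Nat.card (centralizer ({x} : Set G)) = p)
    {n : ℕ} (ρ : Representation ℂ G (Fin n → ℂ)) (hρ : ρ.IsIrreducible) (hno : ∀ v, ρ x v = v → v = 0) :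
    n = p - 1 ∨ n = (centralizer ((zpowers x : Subgroup G) : Set G)).relIndex
      (normalizer ((zpowers x : Subgroup G) : Set G)) ∧ n ∣ p - 1 := by
  obtain ⟨P, hPx, hP⟩ := exists_sylow hx hC
  obtain ⟨M, hM⟩ := Cfsg.Agent.Blocks.ExistsModular.exists_isPModular (p := p) hp.out
  set e := (centralizer ((P : Subgroup G) : Set G)).relIndex (normalizer ((P : Subgroup G) : Set G)) with he
  have hlow := Cfsg.Agent.Blocks.CyclicAssembly.lower P hP hM e rfl
  obtain ⟨z, hz, a, N, hzP, hcf, hcq, hmul, -, hrow, -, hval, hdeg⟩ := structure_thm hM P hP e rfl hlow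
  let χ : IrrCharacter G := ⟨ρ.character, n, ρ, hρ, rfl⟩
  have hn : charDegree ρ.character = n := charDegree_of_eq (by
    rw [Representation.char_one]; simp)
  have hnpos : 0 < n := by
    rw [← hn]; exact charDegree_pos χ.2
  -- `z` and `x` generate the same subgroup
  have hzx : zpowers z = zpowers x := by rw [hzP, hPx]
  have hno' : ∀ v, ρ z v = v → v = 0 := by
    intro v hv
    apply hno
    have h1 : x ∈ zpowers z := by rw [hzx]; exact mem_zpowers x
    exact (zpowers_le.2 (mem_fixer.2 hv) : zpowers z ≤ fixer ρ v) h1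
  have hsum := sum_zpowers_eq_zero ρ hz hno'
  have hCz : Nat.card (centralizer ({z} : Set G)) = p := by
    rw [← hC]
    congr 2
    have h1 : ∀ y : G, centralizer ({y} : Set G) = centralizer ((zpowers y : Subgroup G) : Set G) := by
      intro y
      rw [zpowers_eq_closure, centralizer_closure]
    rw [h1, h1, hzx]
  have hne : n ≠ 0 := hnpos.ne'
  -- the sum of the values at the nontrivial elements is `-n`
  have hsplit : ∑ m : ZMod p, ρ.character (u z m) =
      (n : ℂ) + ∑ m ∈ Finset.univ.erase (0 : ZMod p), ρ.character (u z m) := by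
    rw [← Finset.add_sum_erase _ _ (Finset.mem_univ (0 : ZMod p)), u_zero, Representation.char_one]
    simp
  by_cases hχ : χ ∈ principalBlock M G
  swap
  · exfalso
    have h0 : ∀ m ∈ Finset.univ.erase (0 : ZMod p), ρ.character (u z m) = 0 := by
      intro m hm
      have hm0 : m ≠ 0 := Finset.ne_of_mem_erase hm
      have h1 := zpowers_u hz hm0
      have h2 : orderOf (u z m) = p := by rw [← Nat.card_zpowers, h1, Nat.card_zpowers, hz]
      refine apply_eq_zero hM h2 ?_ hχ
      have h3 : ∀ y : G, centralizer ({y} : Set G) = centralizer ((zpowers y : Subgroup G) : Set G) := by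
        intro y
        rw [zpowers_eq_closure, centralizer_closure]
      rw [h3, h1, ← h3, hCz]
    rw [hsplit, Finset.sum_eq_zero h0, add_zero, Nat.cast_eq_zero] at hsum
    exact hne hsum
  have : Fintype ((ZMod p)ˣ ⧸ fuse z hz) := Fintype.ofFinite _
  set χ' : principalBlock M G := ⟨χ, hχ⟩ with hχ'
  have hS : ∑ m ∈ Finset.univ.erase (0 : ZMod p), ρ.character (u z m) =
      - ∑ i : (ZMod p)ˣ, (a χ' (QuotientGroup.mk i) : ℂ) := by
    have h1 : ∀ m ∈ Finset.univ.erase (0 : ZMod p), ρ.character (u z m) =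
        ∑ i : (ZMod p)ˣ, (a χ' (QuotientGroup.mk i) : ℂ) * (stdAddChar ((i : ZMod p) * m) : ℂ) :=
      fun m hm => hval χ' m (Finset.ne_of_mem_erase hm)
    rw [Finset.sum_congr rfl h1, Finset.sum_comm, ← Finset.sum_neg_distrib]
    refine Finset.sum_congr rfl fun i _ => ?_
    rw [← Finset.mul_sum]
    have h2 : ∑ m ∈ Finset.univ.erase (0 : ZMod p), (stdAddChar ((i : ZMod p) * m) : ℂ) = -1 := by
      have h3 := sum_std (p := p) (i : ZMod p)
      rw [if_neg (Units.ne_zero i), ← Finset.add_sum_erase _ _ (Finset.mem_univ (0 : ZMod p)), zero_mul,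
        AddChar.map_zero_eq_one] at h3
      have h4 : ∑ m ∈ Finset.univ.erase (0 : ZMod p), (stdAddChar ((i : ZMod p) * m) : ℂ) =
          ∑ m ∈ Finset.univ.erase (0 : ZMod p), (stdAddChar (m * (i : ZMod p)) : ℂ) :=
        Finset.sum_congr rfl fun m _ => by rw [mul_comm]
      rw [h4]
      linear_combination h3
    rw [h2]
    ring
  have hcf' : (Nat.card (fuse z hz) : ℤ) = e := by rw [hcf]
  have hSe : ∑ i : (ZMod p)ˣ, (a χ' (QuotientGroup.mk i) : ℂ) = ((e * ∑ ω, a χ' ω : ℤ) : ℂ) := by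
    rw [← hcf', ← sum_mk_eq (fuse z hz) (a χ')]
    push_cast
    rfl
  have hdeg' : (n : ℤ) = p * N χ' + e * ∑ ω, a χ' ω := by
    have h1 := hdeg χ'
    rw [finsum_eq_sum_of_fintype] at h1
    rw [← h1]
    exact_mod_cast hn.symm
  rw [hsplit, hS, hSe] at hsum
  have hkey : (n : ℤ) = e * ∑ ω, a χ' ω := by
    have h1 : (n : ℂ) = ((e * ∑ ω, a χ' ω : ℤ) : ℂ) := by linear_combination hsum
    exact_mod_cast h1
  have he0 : 0 < e := by rw [← hcf]; exact Nat.card_pos
  rcases hrow χ' with h | h | ⟨i, h⟩ | ⟨i, h⟩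
  · left
    simp only [h, Finset.sum_const, Finset.card_univ, nsmul_eq_mul, mul_one] at hkey
    rw [← Nat.card_eq_fintype_card, hcq] at hkey
    have h1 : n = e * ((p - 1) / e) := by exact_mod_cast hkey
    rw [h1, hmul]
  · exfalso
    simp only [h, Finset.sum_const, Finset.card_univ, nsmul_eq_mul] at hkey
    have h1 : (0 : ℤ) < n := by exact_mod_cast hnpos
    have h2 : (0 : ℤ) ≤ (e : ℤ) * (Fintype.card ((ZMod p)ˣ ⧸ fuse z hz) : ℤ) := by positivity
    linarith
  · right
    simp only [h, Finset.sum_ite_eq', Finset.mem_univ, if_true, mul_one] at hkey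
    have h1 : n = e := by exact_mod_cast hkey
    rw [← hPx, h1]
    exact ⟨rfl, Dvd.intro _ hmul⟩
  · exfalso
    simp only [h, Finset.sum_ite_eq', Finset.mem_univ, if_true] at hkey
    have h1 : (0 : ℤ) < n := by exact_mod_cast hnpos
    have h2 : (0 : ℤ) < e := by exact_mod_cast he0
    linarith

end Cfsg.Agent.H630.CJ
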