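import Cfsg.Agent.H630.CJ.Two
import Cfsg.Agent.H95.Szep.Rows
import Cfsg.Agent.H121.Cyc.Mathieu
import Cfsg.Agent.SporadicA.M11Facts
import Cfsg.Agent.H492.IMJ1
import Cfsg.Agent.ClassicalGeometry.PSL2Basic

/-!
# S4792: the rows with two self-centralising primes, or one and a minimal degree (helper630)

`M11 M22 M23 M24 J1 J3 J4 HS McL`
-/

set_option autoImplicit false

namespace Cfsg.Agent.H630.CJ

open Subgroup Cfsg Cfsg.Agent.H430.Conj
open Cfsg.Agent.H122 (MinDeg)
open Cfsg.Agent.H408.SporEng (Self)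

universe u v

theorem not_psl {G : Type u} [Group G] {N p : ℕ} (hp : p.Prime) (hp2 : p ≠ 2) (hc : Nat.card G = N)
    (h : N * 2 ≠ p * (p ^ 2 - 1)) :
    ¬ Nonempty (G ≃* Matrix.ProjectiveSpecialLinearGroup (Fin 2) (ZMod p)) := by
  rintro ⟨e⟩
  have := Fact.mk hp
  have hodd : Odd (Fintype.card (ZMod p)) := by
    rw [ZMod.card]
    exact hp.odd_of_ne_two hp2
  have h1 := Cfsg.Agent.ClassicalGeometry.PSL2Basic.card_PSL2_odd (ZMod p) hodd
  rw [← Nat.card_congr e.toEquiv, ZMod.card, hc] at h1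
  exact h h1

theorem not_comm_of {G : Type u} [Group G] [Finite G] (hs : IsSimpleGroup G) {N : ℕ} (hc : Nat.card G = N)
    (hN : ¬ N.Prime) : ¬ IsMulCommutative G :=
  H408.SporEng.not_comm (by rw [hc]; exact hN)

/-- two self-centralising primes, numerical hypotheses -/
theorem row_two' {G : Type u} [Group G] [Finite G] (hs : IsSimpleGroup G) {N p q : ℕ} (hc : Nat.card G = N)
    (hN : ¬ N.Prime) (hp : p.Prime) (hq : q.Prime) (hpq : p < q) (hp2 : p ≠ 2) (h1 : N * 2 ≠ p * (p ^ 2 - 1))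
    (h2 : N * 2 ≠ q * (q ^ 2 - 1)) (hp' : Self p G) (hq' : Self q G) : Row G :=
  row_of_two (not_comm_of hs hc hN) hp hq hpq (not_psl hp hp2 hc h1)
    (not_psl hq (by have := hp.two_le; omega) hc h2) hp' hq'

/-- one self-centralising prime and the minimal degree -/
theorem row_deg' {G : Type u} [Group G] [Finite G] (hs : IsSimpleGroup G) {N p : ℕ} (hc : Nat.card G = N)
    (hN : ¬ N.Prime) (hp : p.Prime) (hp' : Self p G) {d : ℕ} (hd : MinDeg G d) (hpd : p ≤ d) : Row G :=
  row_of_minDeg (not_comm_of hs hc hN) hp hp' (hd.mono hpd)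

section

variable {G : Type u} [Group G] [Finite G]

theorem row_m11 (hs : IsSimpleGroup G) (h : Spor.IsoM11 G) : Row G := by
  obtain ⟨e⟩ := h
  have hM : Cfsg.IsM11 Spor.M11 := Cfsg.Agent.OddHalf.D8.M11.isM11 (X := Spor.M11) ⟨MulEquiv.refl _⟩
  have hfin : Finite Spor.M11 := Nat.finite_of_card_ne_zero (by rw [hM.2]; norm_num)
  have h5 : Self 5 Spor.M11 := Self.of_all (by norm_num) (by rw [hM.2]; norm_num) fun x hx =>
    Cfsg.Agent.SporadicA.M11Facts.card_centralizer_five hM hx
  exact row_two' (p := 5) (q := 11) hs (NotCT.Orders.m11 ⟨e⟩) (by norm_num) (by norm_num) (by norm_num) (by norm_num)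
    (by norm_num) (by norm_num) (by norm_num) (Self.congr e.symm h5) (Self.congr e.symm H408.SporSelf.m11)

theorem row_m22 (hs : IsSimpleGroup G) (h : Spor.IsoM22 G) : Row G :=
  h.elim fun e => row_deg' (p := 11) hs (NotCT.Orders.m22 h) (by norm_num) (by norm_num)
    (Self.congr e.symm H408.SporSelf.m22) (H121.Cyc.m22 h) (by norm_num)

theorem self11_m24 : Self 11 M24 := by
  have hc : Nat.card M24 = 244823040 := NotCT.Orders.m24 ⟨MulEquiv.refl _⟩
  have hf : Finite M24 := Nat.finite_of_card_ne_zero (by rw [hc]; norm_num)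
  exact Self.of_all (by norm_num) (by rw [hc]; norm_num) fun x hx => H729.PairMathieu.card_cent_eleven hx

theorem row_m24 (hs : IsSimpleGroup G) (h : Spor.IsoM24 G) : Row G :=
  h.elim fun e => row_deg' (p := 11) hs (NotCT.Orders.m24 h) (by norm_num) (by norm_num)
    (Self.congr e.symm self11_m24) (H121.Cyc.m24 h) (by norm_num)

theorem self11_m23 : Self 11 Spor.M23 := by
  have hc : Nat.card M24 = 244823040 := NotCT.Orders.m24 ⟨MulEquiv.refl _⟩
  have hf : Finite M24 := Nat.finite_of_card_ne_zero (by rw [hc]; norm_num)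
  exact Self.of_hom (Subgroup.inclusion (fun _ h => h.1 : Spor.M23 ≤ M24)) (Subgroup.inclusion_injective _) (by norm_num)
    (by rw [NotCT.Orders.m23 ⟨MulEquiv.refl _⟩]; norm_num) fun _ hx => H729.PairMathieu.card_cent_eleven hx

theorem row_m23 (hs : IsSimpleGroup G) (h : Spor.IsoM23 G) : Row G :=
  h.elim fun e => row_deg' (p := 11) hs (NotCT.Orders.m23 h) (by norm_num) (by norm_num)
    (Self.congr e.symm self11_m23) (H121.Cyc.m23 h) (by norm_num)

theorem self7_j1 : Self 7 Spor.J1 := by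
  obtain ⟨hs, hc⟩ := Cfsg.Agent.SporadicB.J1.Main.isJ1
  have : Finite Spor.J1 := Nat.finite_of_card_ne_zero (by rw [hc]; norm_num)
  exact Self.of_all (by norm_num) (by rw [hc]; norm_num) fun x hx => (H492.IMJ1.fus7 hx).1

theorem row_j1 (hs : IsSimpleGroup G) (h : Spor.IsoJ1 G) : Row G :=
  h.elim fun e => row_two' (p := 7) (q := 19) hs (NotCT.Orders.j1 ⟨e⟩) (by norm_num) (by norm_num) (by norm_num)
    (by norm_num) (by norm_num) (by norm_num) (by norm_num) (Self.congr e.symm self7_j1)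
    (Self.congr e.symm H408.SporSelf.j1)

theorem row_j3 (hs : IsSimpleGroup G) (h : Spor.IsoJ3 G) : Row G :=
  row_two' (p := 17) (q := 19) hs (NotCT.Orders.j3 h) (by norm_num) (by norm_num) (by norm_num)
    (by norm_num) (by norm_num) (by norm_num) (by norm_num)
    (Self.of_all (by norm_num) (by rw [NotCT.Orders.j3 h]; norm_num) fun _ hx => (H898.J3Cent.seventeen h hx).1)
    (H408.SporSelf.j3 h)

theorem self29_j4 : Self 29 Spor.J4 := by
  have hc := NotCT.Orders.j4 (K := Spor.J4) ⟨MulEquiv.refl _⟩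
  have : Finite Spor.J4 := Nat.finite_of_card_ne_zero (by rw [hc]; norm_num)
  exact Self.of_all (by norm_num) (by rw [hc]; norm_num) fun x hx => H723.Spor.JFour.cent_big (by norm_num) hx

theorem row_j4 (hs : IsSimpleGroup G) (h : Spor.IsoJ4 G) : Row G :=
  h.elim fun e => row_two' (p := 29) (q := 43) hs (NotCT.Orders.j4 ⟨e⟩) (by norm_num) (by norm_num) (by norm_num)
    (by norm_num) (by norm_num) (by norm_num) (by norm_num) (Self.congr e.symm self29_j4)
    (Self.congr e.symm H408.SporSelf.j4)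

theorem row_hs (hs : IsSimpleGroup G) (h : Spor.IsoHS G) : Row G :=
  row_deg' (p := 11) hs (NotCT.Orders.hs h) (by norm_num) (by norm_num)
    (Self.of_all (by norm_num) (by rw [NotCT.Orders.hs h]; norm_num) fun _ hx =>
      H547.SelfCent.McLHS.hs h (H393.Iso.na_hs h) (NotCT.Orders.hs h) hx) (H121.Cyc.hs h) (by norm_num)

theorem row_mcl (hs : IsSimpleGroup G) (h : Spor.IsoMcL G) : Row G :=
  row_deg' (p := 11) hs (NotCT.Orders.mcl h) (by norm_num) (by norm_num)
    (Self.of_all (by norm_num) (by rw [NotCT.Orders.mcl h]; norm_num) fun _ hx =>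
      H547.SelfCent.McLHS.mcl h (H393.Iso.na_mcl h) (NotCT.Orders.mcl h) hx) (H121.Cyc.mcl h) (by norm_num)

end

end Cfsg.Agent.H630.CJ
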