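import Cfsg.Agent.H630.CJ.RowsA
import Cfsg.Agent.H680.PBON
import Cfsg.Agent.H348.PPD.RowFi24
import Cfsg.Agent.H841.PB.FiTwentyThreeA
import Cfsg.Agent.H474.Suz13.Main

/-!
# S4792: the rows with two self-centralising primes (helper630)

`Suz ON Fi23 Fi24'`
-/

set_option autoImplicit false

namespace Cfsg.Agent.H630.CJ

open Subgroup Cfsg Cfsg.Agent.H430.Conj
open Cfsg.Agent.H122 (MinDeg)
open Cfsg.Agent.H408.SporEng (Self)

universe u v

variable {G : Type u} [Group G] [Finite G]

theorem row_suz (hs : IsSimpleGroup G) (h : Spor.IsoSuz G) : Row G :=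
  h.elim fun e => row_two' (p := 11) (q := 13) hs (NotCT.Orders.suz ⟨e⟩) (by norm_num) (by norm_num) (by norm_num)
    (by norm_num) (by norm_num) (by norm_num) (by norm_num) (Self.congr e.symm H95.Szep.self_suz)
    (Self.congr e.symm H474.Suz13.suz_thirteen)

theorem self11_on : Self 11 Spor.ON := by
  obtain ⟨y, h1, h2, -⟩ := H680.PBON.real_eleven
  exact ⟨y, h1, h2⟩

theorem row_on (hs : IsSimpleGroup G) (h : Spor.IsoON G) : Row G :=
  h.elim fun e => row_two' (p := 11) (q := 19) hs (NotCT.Orders.on ⟨e⟩) (by norm_num) (by norm_num) (by norm_num)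
    (by norm_num) (by norm_num) (by norm_num) (by norm_num) (Self.congr e.symm self11_on)
    (Self.congr e.symm H95.Szep.self_on)

theorem self17_fi23 : Self 17 Spor.Fi23 := by
  have hc := NotCT.Orders.fi23 (K := Spor.Fi23) ⟨MulEquiv.refl _⟩
  have : Finite Spor.Fi23 := Nat.finite_of_card_ne_zero (by rw [hc]; norm_num)
  exact Self.of_all (by norm_num) (by rw [hc]; norm_num) fun x hx => H841.PB.FiTwentyThree.card_cent_17 hx

theorem row_fi23 (hs : IsSimpleGroup G) (h : Spor.IsoFi23 G) : Row G :=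
  h.elim fun e => row_two' (p := 17) (q := 23) hs (NotCT.Orders.fi23 ⟨e⟩) (by norm_num) (by norm_num) (by norm_num)
    (by norm_num) (by norm_num) (by norm_num) (by norm_num) (Self.congr e.symm self17_fi23)
    (Self.congr e.symm H408.SporSelf.fi23)

theorem row_fi24 (hs : IsSimpleGroup G) (h : Spor.IsoFi24' G) : Row G :=
  h.elim fun e => row_two' (p := 17) (q := 29) hs (NotCT.Orders.fi24 ⟨e⟩) (by norm_num) (by norm_num) (by norm_num)
    (by norm_num) (by norm_num) (by norm_num) (by norm_num) (Self.congr e.symm H348.PPD.RowFi24.cent17)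
    (Self.congr e.symm H408.SporSelf.fi24)

end Cfsg.Agent.H630.CJ
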